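import Mathlib.AlgebraicGeometry.SpreadingOut
import Mathlib.AlgebraicGeometry.Birational.RationalMap
import Mathlib.AlgebraicGeometry.Morphisms.FinitePresentation

/-!
# Spreading out without germ injectivity

* `spread_out_unique`: uniqueness, for `Y` locally of finite type over `S`, no condition on `X`.
* `spread_out`: existence, for `Y` locally of finite presentation over `S`, no condition on `X`.
-/

universe u

open CategoryTheory AlgebraicGeometry TopologicalSpace Opposite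

namespace Groth.Agent.Spread

variable {X Y S : Scheme.{u}} {R A : CommRingCat.{u}}

/-- Finitely many pairs of sections with equal germs at `x` agree on a common neighbourhood. -/
lemma exists_res_eq {U : X.Opens} {x : X} (hxU : x ∈ U) {ι : Type*} (s : Finset ι)
    (a b : ι → Γ(X, U))
    (h : ∀ i ∈ s, X.presheaf.germ U x hxU (a i) = X.presheaf.germ U x hxU (b i)) :
    ∃ (V : X.Opens) (i : V ≤ U), x ∈ V ∧
      ∀ j ∈ s, X.presheaf.map (homOfLE i).op (a j) = X.presheaf.map (homOfLE i).op (b j) := by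
  classical
  induction s using Finset.induction with
  | empty => exact ⟨U, le_rfl, hxU, by simp⟩
  | insert j t hj ih =>
    obtain ⟨V, iV, hxV, hV⟩ := ih fun i hi => h i (Finset.mem_insert_of_mem hi)
    obtain ⟨W, hxW, i₁, i₂, hW⟩ := X.presheaf.germ_eq x hxU hxU _ _ (h j (Finset.mem_insert_self ..))
    refine ⟨V ⊓ W, inf_le_left.trans iV, ⟨hxV, hxW⟩, ?_⟩
    intro k hk
    rcases Finset.mem_insert.mp hk with rfl | hk
    · have := congr(X.presheaf.map (homOfLE (inf_le_right : V ⊓ W ≤ W)).op $hW)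
      rw [← CategoryTheory.comp_apply, ← CategoryTheory.comp_apply, ← Functor.map_comp,
        ← Functor.map_comp] at this
      exact this
    · have := congr(X.presheaf.map (homOfLE (inf_le_left : V ⊓ W ≤ V)).op $(hV k hk))
      rw [← CategoryTheory.comp_apply, ← CategoryTheory.comp_apply, ← Functor.map_comp] at this
      exact this

/-- Two maps out of a finite type algebra which agree at the stalk agree on a neighbourhood. -/
lemma exists_res_hom_eq {U : X.Opens} {x : X} (hxU : x ∈ U) (φRA : R ⟶ A)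
    (hφRA : RingHom.FiniteType φRA.hom) (a b : A ⟶ Γ(X, U)) (h : φRA ≫ a = φRA ≫ b)
    (e : a ≫ X.presheaf.germ U x hxU = b ≫ X.presheaf.germ U x hxU) :
    ∃ (V : X.Opens) (i : V ≤ U), x ∈ V ∧
      a ≫ X.presheaf.map (homOfLE i).op = b ≫ X.presheaf.map (homOfLE i).op := by
  algebraize [φRA.hom]
  obtain ⟨s, hs⟩ := ‹Algebra.FiniteType R A›
  obtain ⟨V, i, hxV, hV⟩ := exists_res_eq hxU s (fun t => a t) (fun t => b t)
    fun t _ => congr($e t)
  refine ⟨V, i, hxV, ?_⟩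
  ext t
  have ht : t ∈ Algebra.adjoin R (s : Set A) := hs ▸ trivial
  induction ht using Algebra.adjoin_induction with
  | mem t ht => exact hV t ht
  | algebraMap r =>
    have := congr($h r)
    simp only [RingHom.algebraMap_toAlgebra, CommRingCat.comp_apply] at this ⊢
    rw [this]
  | add p q _ _ hp hq => rw [map_add, map_add, hp, hq]
  | mul p q _ _ hp hq => rw [map_mul, map_mul, hp, hq]

lemma hom_eq_of_appLE_eq (f g : X ⟶ Y) {U : X.Opens} {V : Y.Opens} (hV : IsAffineOpen V)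
    (hf : U ≤ f ⁻¹ᵁ V) (hg : U ≤ g ⁻¹ᵁ V) (h : f.appLE V U hf = g.appLE V U hg) :
    U.ι ≫ f = U.ι ≫ g := by
  rw [← Scheme.Hom.resLE_comp_ι f hf, ← Scheme.Hom.resLE_comp_ι g hg]
  congr 1
  have : IsAffine V := hV
  suffices ∀ (U₀ V₀) (eU : U = U₀) (eV : V = V₀),
      f.appLE V₀ U₀ (eU ▸ eV ▸ hf) = g.appLE V₀ U₀ (eU ▸ eV ▸ hg) by
    rw [← cancel_mono V.toScheme.isoSpec.hom]
    simp only [Scheme.isoSpec, asIso_hom, Scheme.toSpecΓ_naturality,
      Scheme.Hom.app_eq_appLE, Scheme.Hom.resLE_appLE]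
    congr 2
    apply this <;> simp
  rintro U₀ V₀ rfl rfl
  exact h

variable (sX : X ⟶ S) (sY : Y ⟶ S)

/-- Uniqueness of spreading out, with no condition on `X`. -/
lemma spread_out_unique [LocallyOfFiniteType sY] {x : X} (f g : X ⟶ Y)
    (hfg : f ≫ sY = g ≫ sY) (e : f x = g x)
    (H : f.stalkMap x =
      Y.presheaf.stalkSpecializes (Inseparable.of_eq e.symm).specializes ≫ g.stalkMap x) :
    ∃ U : X.Opens, x ∈ U ∧ U.ι ≫ f = U.ι ≫ g := by
  obtain ⟨_, ⟨W, hW, rfl⟩, hxW, -⟩ :=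
    S.isBasis_affineOpens.exists_subset_of_mem_open (Set.mem_univ (sY (f x))) isOpen_univ
  obtain ⟨_, ⟨V : Y.Opens, hV, rfl⟩, hyV, iVW⟩ :=
    Y.isBasis_affineOpens.exists_subset_of_mem_open (a := f x) hxW (sY ⁻¹ᵁ W).2
  have hgV : g x ∈ V := e ▸ hyV
  let U₀ : X.Opens := f ⁻¹ᵁ V ⊓ g ⁻¹ᵁ V
  have hxU₀ : x ∈ U₀ := ⟨hyV, hgV⟩
  obtain ⟨U, i, hxU, hU⟩ := exists_res_hom_eq hxU₀ (sY.appLE W V iVW)
    (sY.finiteType_appLE hW hV _) (f.appLE V U₀ inf_le_left) (g.appLE V U₀ inf_le_right)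
    (by simp only [Scheme.Hom.appLE_comp_appLE]; simp [hfg])
    (by
      simp only [Scheme.Hom.appLE, Category.assoc, X.presheaf.germ_res',
        ← Scheme.Hom.germ_stalkMap, H]
      simp only [TopCat.Presheaf.germ_stalkSpecializes_assoc, Scheme.Hom.germ_stalkMap])
  refine ⟨U, hxU, hom_eq_of_appLE_eq f g hV (i.trans inf_le_left) (i.trans inf_le_right) ?_⟩
  simpa only [Scheme.Hom.appLE_map] using hU

/-- Uniqueness of spreading out, in terms of morphisms from `Spec 𝒪ₓ`. -/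
lemma spread_out_unique' [LocallyOfFiniteType sY] {x : X} (f g : X ⟶ Y)
    (hfg : f ≫ sY = g ≫ sY) (e : X.fromSpecStalk x ≫ f = X.fromSpecStalk x ≫ g) :
    ∃ U : X.Opens, x ∈ U ∧ U.ι ≫ f = U.ι ≫ g := by
  fapply spread_out_unique sY f g hfg
  · simpa using congr($e (IsLocalRing.closedPoint _))
  · apply Spec.map_injective
    rw [← cancel_mono (Y.fromSpecStalk _)]
    simpa [Scheme.SpecMap_stalkSpecializes_fromSpecStalk]

/-- Lifting a map to the stalk to a neighbourhood, for finitely presented algebras. -/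
lemma exists_lift {x : X} {U : X.Opens} (hxU : x ∈ U)
    (φ : A ⟶ X.presheaf.stalk x) (φRA : R ⟶ A) (φRX : R ⟶ Γ(X, U))
    (hφRA : RingHom.FinitePresentation φRA.hom)
    (e : φRA ≫ φ = φRX ≫ X.presheaf.germ U x hxU) :
    ∃ (V : X.Opens) (hxV : x ∈ V) (φ' : A ⟶ Γ(X, V)) (i : V ≤ U), IsAffineOpen V ∧
      φ = φ' ≫ X.presheaf.germ V x hxV ∧ φRX ≫ X.presheaf.map i.hom.op = φRA ≫ φ' := by
  classical
  algebraize [φRA.hom]
  obtain ⟨n, π, hπ, hker⟩ := ‹Algebra.FinitePresentation R A›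
  choose W hxW f hf using fun i : Fin n ↦ X.presheaf.exists_germ_eq (φ (π (MvPolynomial.X i)))
  have hx₀ : x ∈ Finset.univ.inf W ⊓ U := by
    rw [← SetLike.mem_coe, TopologicalSpace.Opens.coe_inf, TopologicalSpace.Opens.coe_finset_inf]
    exact ⟨by simpa using fun i ↦ hxW i, hxU⟩
  let V₀ : X.Opens := Finset.univ.inf W ⊓ U
  let a : R →+* Γ(X, V₀) :=
    (φRX ≫ X.presheaf.map (homOfLE (inf_le_right : V₀ ≤ U)).op).hom
  let b : Fin n → Γ(X, V₀) := fun i => X.presheaf.map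
    (homOfLE ((inf_le_left.trans (Finset.inf_le (Finset.mem_univ i))) : V₀ ≤ W i)).op (f i)
  let Φ : MvPolynomial (Fin n) R →+* Γ(X, V₀) := MvPolynomial.eval₂Hom a b
  have hΦ : (X.presheaf.germ V₀ x hx₀).hom.comp Φ = φ.hom.comp π.toRingHom := by
    apply MvPolynomial.ringHom_ext
    · intro r
      simp only [Φ, a, RingHom.comp_apply, MvPolynomial.eval₂Hom_C, CommRingCat.comp_apply]
      rw [X.presheaf.germ_res_apply]
      have := congr($e r)
      simp only [CommRingCat.comp_apply] at this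
      simp [RingHom.algebraMap_toAlgebra, this]
    · intro i
      simp only [Φ, b, RingHom.comp_apply, MvPolynomial.eval₂Hom_X']
      rw [X.presheaf.germ_res_apply, hf]
      rfl
  obtain ⟨t, ht⟩ := hker
  obtain ⟨V₁, i₁, hx₁, hV₁⟩ := exists_res_eq hx₀ t (fun p => Φ p) (fun _ => 0) fun p hp => by
    have hp' : π p = 0 := RingHom.mem_ker.mp (ht ▸ Ideal.subset_span hp)
    have := congr($hΦ p)
    simp only [RingHom.comp_apply, AlgHom.toRingHom_eq_coe, RingHom.coe_coe, hp', map_zero]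
      at this
    rw [map_zero]; exact this
  obtain ⟨_, ⟨V : X.Opens, hV, rfl⟩, hxV, iV⟩ :=
    X.isBasis_affineOpens.exists_subset_of_mem_open hx₁ V₁.2
  have iV₀ : V ≤ V₀ := (show V ≤ V₁ from iV).trans i₁
  let Φ' : MvPolynomial (Fin n) R →+* Γ(X, V) := (X.presheaf.map (homOfLE iV₀).op).hom.comp Φ
  have hΦ' : RingHom.ker π.toRingHom ≤ RingHom.ker Φ' := by
    intro p hp
    have hp' : p ∈ Ideal.span (t : Set (MvPolynomial (Fin n) R)) := ht ▸ hp
    refine (Ideal.span_le.mpr ?_ : _ ≤ RingHom.ker Φ') hp'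
    intro q hq
    have := congr(X.presheaf.map (homOfLE (show V ≤ V₁ from iV)).op $(hV₁ q hq))
    rw [← CategoryTheory.comp_apply, ← Functor.map_comp, map_zero, map_zero] at this
    exact this
  let ψ : A →+* Γ(X, V) := RingHom.liftOfSurjective π.toRingHom hπ ⟨Φ', hΦ'⟩
  have hψ : ∀ p, ψ (π p) = Φ' p := fun p =>
    RingHom.liftOfRightInverse_comp_apply π.toRingHom _ _ ⟨Φ', hΦ'⟩ p
  refine ⟨V, hxV, CommRingCat.ofHom ψ, iV₀.trans inf_le_right, hV, ?_, ?_⟩
  · ext t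
    obtain ⟨p, rfl⟩ := hπ t
    simp only [CommRingCat.comp_apply, CommRingCat.hom_ofHom, hψ, Φ', RingHom.comp_apply]
    rw [X.presheaf.germ_res_apply]
    exact (congr($hΦ p)).symm
  · ext r
    simp only [CommRingCat.comp_apply, CommRingCat.hom_ofHom]
    have hr : φRA r = π (MvPolynomial.C r) := (π.commutes r).symm
    rw [hr, hψ]
    simp only [Φ', Φ, a, RingHom.comp_apply, MvPolynomial.eval₂Hom_C, CommRingCat.comp_apply]
    change (φRX ≫ X.presheaf.map _) r = (φRX ≫ (X.presheaf.map _ ≫ X.presheaf.map _)) r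
    rw [← Functor.map_comp]
    rfl

/-- Existence of spreading out, with no condition on `X`. -/
lemma spread_out [LocallyOfFinitePresentation sY] {x : X} {y : Y}
    (e : sX x = sY y) (φ : Y.presheaf.stalk y ⟶ X.presheaf.stalk x)
    (h : sY.stalkMap y ≫ φ =
      S.presheaf.stalkSpecializes (Inseparable.of_eq e).specializes ≫ sX.stalkMap x) :
    ∃ (U : X.Opens) (hxU : x ∈ U) (f : U.toScheme ⟶ Y),
      Spec.map φ ≫ Y.fromSpecStalk y = U.fromSpecStalkOfMem x hxU ≫ f ∧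
      f ≫ sY = U.ι ≫ sX := by
  obtain ⟨_, ⟨U, hU, rfl⟩, hxU, -⟩ :=
    S.isBasis_affineOpens.exists_subset_of_mem_open (Set.mem_univ (sX x)) isOpen_univ
  have hyU : sY y ∈ U := e ▸ hxU
  obtain ⟨_, ⟨V : Y.Opens, hV, rfl⟩, hyV, iVU⟩ :=
    Y.isBasis_affineOpens.exists_subset_of_mem_open hyU (sY ⁻¹ᵁ U).2
  have : sY.appLE U V iVU ≫ Y.presheaf.germ V y hyV ≫ φ =
      sX.app U ≫ X.presheaf.germ (sX ⁻¹ᵁ U) x hxU := by
    rw [Scheme.Hom.appLE, Category.assoc, Y.presheaf.germ_res_assoc,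
      ← Scheme.Hom.germ_stalkMap_assoc, h]
    simp
  obtain ⟨W, hxW, φ', i, hW, h₁, h₂⟩ :=
    exists_lift (R := Γ(S, U)) (A := Γ(Y, V)) (U := sX ⁻¹ᵁ U) (x := x) hxU
    (Y.presheaf.germ _ y hyV ≫ φ) (sY.appLE U V iVU) (sX.app U)
    (LocallyOfFinitePresentation.finitePresentation_appLE sY hU hV _) this
  refine ⟨W, hxW, W.toSpecΓ ≫ Spec.map φ' ≫ hV.fromSpec, ?_, ?_⟩
  · rw [W.fromSpecStalkOfMem_toSpecΓ_assoc x hxW, ← Spec.map_comp_assoc, ← h₁,
      Spec.map_comp, Category.assoc, ← IsAffineOpen.fromSpecStalk,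
      IsAffineOpen.fromSpecStalk_eq_fromSpecStalk]
  · simp only [Category.assoc]
    rw [← IsAffineOpen.SpecMap_appLE_fromSpec sY hU hV iVU, ← Spec.map_comp_assoc, ← h₂,
      ← Scheme.Hom.appLE, ← hW.isoSpec_hom, IsAffineOpen.SpecMap_appLE_fromSpec sX hU hW i,
      ← Iso.eq_inv_comp, IsAffineOpen.isoSpec_inv_ι_assoc]

/-- Uniqueness for maps on open subschemes of `X`, tested at `Spec 𝒪ₓ`. -/
lemma exists_restrict_eq [LocallyOfFiniteType sY] {U₁ U₂ : X.Opens} {x : X} (h₁ : x ∈ U₁)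
    (h₂ : x ∈ U₂) (f : U₁.toScheme ⟶ Y) (g : U₂.toScheme ⟶ Y) (hf : f ≫ sY = U₁.ι ≫ sX)
    (hg : g ≫ sY = U₂.ι ≫ sX)
    (e : U₁.fromSpecStalkOfMem x h₁ ≫ f = U₂.fromSpecStalkOfMem x h₂ ≫ g) :
    ∃ (W : X.Opens) (i₁ : W ≤ U₁) (i₂ : W ≤ U₂), x ∈ W ∧
      X.homOfLE i₁ ≫ f = X.homOfLE i₂ ≫ g := by
  let U := U₁ ⊓ U₂
  have hx : x ∈ U := ⟨h₁, h₂⟩
  have key : ∀ (V : X.Opens) (hV : x ∈ V) (i : U ≤ V),
      U.fromSpecStalkOfMem x hx ≫ X.homOfLE i = V.fromSpecStalkOfMem x hV := by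
    intro V hV i
    rw [← cancel_mono V.ι]
    simp
  obtain ⟨T, hxT, hT⟩ := spread_out_unique' sY (X := U.toScheme) (x := ⟨x, hx⟩)
    (X.homOfLE inf_le_left ≫ f) (X.homOfLE inf_le_right ≫ g)
    (by simp [hf, hg]) (by
      have he : U.fromSpecStalkOfMem x hx ≫ X.homOfLE inf_le_left ≫ f =
          U.fromSpecStalkOfMem x hx ≫ X.homOfLE inf_le_right ≫ g := by
        simp only [← Category.assoc, key _ h₁, key _ h₂, e]
      simpa [Scheme.Opens.fromSpecStalkOfMem] using he)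
  have iT : U.ι ''ᵁ T ≤ U := (Set.image_subset_range _ _).trans_eq Subtype.range_val
  refine ⟨U.ι ''ᵁ T, iT.trans inf_le_left, iT.trans inf_le_right, ⟨⟨x, hx⟩, hxT, rfl⟩, ?_⟩
  rw [← cancel_epi (Scheme.Hom.isoImage U.ι T).hom]
  rw [← X.homOfLE_homOfLE iT inf_le_left, ← X.homOfLE_homOfLE iT inf_le_right]
  have hι : (Scheme.Hom.isoImage U.ι T).hom ≫ X.homOfLE iT = T.ι := by
    rw [← cancel_mono U.ι]
    simp
  simp only [Category.assoc, reassoc_of% hι]
  exact hT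

end Groth.Agent.Spread
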